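import Mathlib
import Cfsg.Agent.Helper94.S43Defs
import Cfsg.Agent.Helper11.SORT
import Cfsg.Agent.Helper11.SORP
import Cfsg.Agent.Helper11.SOTR
import Cfsg.Agent.Helper43.QuadFin

/-!
Helper library (helper97), piece FR of CALL S43 (helper94): singular vectors and hyperbolic frames
of a 3-dimensional orthogonal space.
-/

set_option autoImplicit false

namespace Cfsg.Agent.Helper97.S43FR

open Matrix Cfsg.Agent.Helper71.T4 Cfsg.Agent.Helper94.S43
open Cfsg.Agent.Helper71.SO (bl ruw Nuw)
open Cfsg.Agent.Helper11.SORT Cfsg.Agent.Helper11.SOTR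
open scoped Kronecker

variable {F : Type*} [Field F]

theorem exists_sing3 [Fintype F] (h2 : (2 : F) ≠ 0) (S : Matrix (Fin 3) (Fin 3) F) (hS : Sᵀ = S)
    (hdet : S.det ≠ 0) : ∃ s : Fin 3 → F, s ≠ 0 ∧ bl S s s = 0 := by
  obtain ⟨v, hv, hQ⟩ := Cfsg.Agent.Helper43.exists_singular (Matrix.toQuadraticForm' S)
    (by rw [Module.finrank_fin_fun])
  refine ⟨v, hv, ?_⟩
  have e : Matrix.toQuadraticForm' S v = bl S v v := by
    unfold Matrix.toQuadraticForm' bl
    rw [LinearMap.BilinMap.toQuadraticMap_apply, Matrix.toLinearMap₂'_apply']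
  rw [← e]
  exact hQ

/-- a vector orthogonal to three vectors spanning the space is orthogonal to everything -/
theorem perp_all (S : Matrix (Fin 3) (Fin 3) F) (b : Fin 3 → (Fin 3 → F))
    (hb : Submodule.span F (Set.range b) = ⊤) (z : Fin 3 → F) (hz : ∀ i, bl S z (b i) = 0)
    (v : Fin 3 → F) : bl S z v = 0 := by
  have hv : v ∈ Submodule.span F (Set.range b) := by rw [hb]; trivial
  obtain ⟨c, rfl⟩ := (Submodule.mem_span_range_iff_exists_fun F).mp hv
  rw [Fin.sum_univ_three, bl_add_right, bl_add_right, bl_smul_right, bl_smul_right, bl_smul_right,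
    hz, hz, hz]
  simp

theorem hyp_frame3 (h2 : (2 : F) ≠ 0) (S : Matrix (Fin 3) (Fin 3) F) (hS : Sᵀ = S)
    (hdet : S.det ≠ 0) (s : Fin 3 → F) (hs : s ≠ 0) (hss : bl S s s = 0) :
    ∃ s₁ e : Fin 3 → F, bl S s₁ s₁ = 0 ∧ bl S s s₁ = 1 ∧ bl S s e = 0 ∧ bl S s₁ e = 0 ∧
      bl S e e ≠ 0 ∧
      ∀ x : Fin 3 → F, x = bl S x s₁ • s + bl S x s • s₁ + (bl S x e / bl S e e) • e := by
  classical
  obtain ⟨s₁, h11, h01⟩ := sing_partner h2 S hS hdet s hs hss
  have h10 : bl S s₁ s = 1 := by rw [bl_comm S hS, h01]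
  -- a vector outside the plane
  obtain ⟨y, hy⟩ : ∃ y : Fin 3 → F, y ∉ Submodule.span F ({s, s₁} : Set (Fin 3 → F)) := by
    by_contra hcon
    have hcon : ∀ y : Fin 3 → F, y ∈ Submodule.span F ({s, s₁} : Set (Fin 3 → F)) := by
      intro y
      by_contra hy
      exact hcon ⟨y, hy⟩
    have htop : Submodule.span F ({s, s₁} : Set (Fin 3 → F)) = ⊤ :=
      (Submodule.eq_top_iff').mpr hcon
    have h1 : Module.finrank F (Submodule.span F (({s, s₁} : Finset (Fin 3 → F)) :
        Set (Fin 3 → F))) ≤ ({s, s₁} : Finset (Fin 3 → F)).card :=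
      finrank_span_finset_le_card _
    have h2' : (({s, s₁} : Finset (Fin 3 → F)) : Set (Fin 3 → F)) = {s, s₁} := by
      simp
    rw [h2', htop, finrank_top, Module.finrank_fin_fun] at h1
    have h3 : ({s, s₁} : Finset (Fin 3 → F)).card ≤ 2 := Finset.card_insert_le _ _ |>.trans (by simp)
    omega
  let e : Fin 3 → F := y - bl S y s₁ • s - bl S y s • s₁
  have he_def : e = y - bl S y s₁ • s - bl S y s • s₁ := rfl
  have hes : bl S e s = 0 := by
    rw [he_def, bl_sub_left, bl_sub_left, bl_smul_left, bl_smul_left, hss, h10]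
    ring
  have hes1 : bl S e s₁ = 0 := by
    rw [he_def, bl_sub_left, bl_sub_left, bl_smul_left, bl_smul_left, h01, h11]
    ring
  have he0 : e ≠ 0 := by
    intro h0
    apply hy
    have : y = bl S y s₁ • s + bl S y s • s₁ := by
      have h := h0
      rw [he_def, sub_sub, sub_eq_zero] at h
      exact h
    rw [this]
    exact Submodule.add_mem _ (Submodule.smul_mem _ _ (Submodule.subset_span (by simp)))
      (Submodule.smul_mem _ _ (Submodule.subset_span (by simp)))
  -- the three vectors are a basis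
  have hli : LinearIndependent F ![s, s₁, e] := by
    rw [Fintype.linearIndependent_iff]
    intro g hg
    rw [Fin.sum_univ_three] at hg
    simp only [Matrix.cons_val_zero, Matrix.cons_val_one, Matrix.cons_val_two,
      Matrix.head_cons, Matrix.tail_cons] at hg
    have hg0 : g 0 = 0 := by
      have := congrArg (fun v => bl S v s₁) hg
      simp only [bl_add_left, bl_smul_left, h01, h11, hes1, bl_zero_left] at this
      linear_combination this
    have hg1 : g 1 = 0 := by
      have := congrArg (fun v => bl S v s) hg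
      simp only [bl_add_left, bl_smul_left, hss, h10, hes, bl_zero_left] at this
      linear_combination this
    have hg2 : g 2 = 0 := by
      rw [hg0, hg1, zero_smul, zero_smul, zero_add, zero_add] at hg
      rcases smul_eq_zero.mp hg with h | h
      · exact h
      · exact absurd h he0
    intro i
    fin_cases i
    · exact hg0
    · exact hg1
    · exact hg2
  have hspan : Submodule.span F (Set.range ![s, s₁, e]) = ⊤ :=
    hli.span_eq_top_of_card_eq_finrank' (by rw [Module.finrank_fin_fun, Fintype.card_fin])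
  have hperp : ∀ z : Fin 3 → F, bl S z s = 0 → bl S z s₁ = 0 → bl S z e = 0 → z = 0 := by
    intro z hz0 hz1 hz2
    by_contra hz
    obtain ⟨x, hx⟩ := exists_bl_ne S hdet z hz
    apply hx
    refine perp_all S ![s, s₁, e] hspan z ?_ x
    intro i
    fin_cases i
    · exact hz0
    · exact hz1
    · exact hz2
  have hee : bl S e e ≠ 0 := by
    intro h0
    exact he0 (hperp e hes hes1 h0)
  refine ⟨s₁, e, h11, h01, by rw [bl_comm S hS, hes], by rw [bl_comm S hS, hes1], hee, ?_⟩
  intro x
  have hz : x - (bl S x s₁ • s + bl S x s • s₁ + (bl S x e / bl S e e) • e) = 0 := by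
    apply hperp
    · rw [bl_sub_left, bl_add_left, bl_add_left, bl_smul_left, bl_smul_left, bl_smul_left, hss,
        h10, hes]
      ring
    · rw [bl_sub_left, bl_add_left, bl_add_left, bl_smul_left, bl_smul_left, bl_smul_left, h01,
        h11, hes1]
      ring
    · rw [bl_sub_left, bl_add_left, bl_add_left, bl_smul_left, bl_smul_left, bl_smul_left,
        bl_comm S hS s e, bl_comm S hS s₁ e, hes, hes1]
      field_simp
      ring
  exact sub_eq_zero.mp hz

end Cfsg.Agent.Helper97.S43FR
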