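-- helper97 library: basic facts on GL(n, F), scalars, special linear group, maximality.
import Mathlib
import Cfsg.Prelude.Def_GeometricClasses

set_option autoImplicit false
open Cfsg Cfsg.Geo Matrix

namespace Cfsg.Agent.Helper97

variable {F : Type*} [Field F] {n : ℕ}

/-- If `H` is maximal in `SL` and `H ≤ M` with `SL ⊄ M` then `H = M ⊓ SL`. -/
theorem eq_inf_of_isMaximalIn {H M : Subgroup (GL (Fin n) F)}
    (hH : IsMaximalIn (specialLinear (Fin n) F) H) (hHM : H ≤ M)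
    (hM : ¬ specialLinear (Fin n) F ≤ M) :
    H = M ⊓ specialLinear (Fin n) F := by
  rcases hH.2 (M ⊓ specialLinear (Fin n) F) (le_inf hHM hH.1.le) inf_le_right with h | h
  · exact h.symm
  · exact absurd (h ▸ inf_le_left) hM

theorem mem_specialLinear_iff (g : GL (Fin n) F) :
    g ∈ specialLinear (Fin n) F ↔ (g : Matrix (Fin n) (Fin n) F).det = 1 := by
  rw [specialLinear, MonoidHom.mem_ker, Units.ext_iff]
  rfl

/-- An invertible matrix built from a matrix of determinant one. -/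
noncomputable def glOfDetOne (M : Matrix (Fin n) (Fin n) F) (h : M.det = 1) : GL (Fin n) F :=
  Matrix.GeneralLinearGroup.mkOfDetNeZero M (by rw [h]; exact one_ne_zero)

theorem glOfDetOne_val (M : Matrix (Fin n) (Fin n) F) (h : M.det = 1) :
    ((glOfDetOne M h : GL (Fin n) F) : Matrix (Fin n) (Fin n) F) = M := rfl

theorem glOfDetOne_mem (M : Matrix (Fin n) (Fin n) F) (h : M.det = 1) :
    glOfDetOne M h ∈ specialLinear (Fin n) F := by
  rw [mem_specialLinear_iff, glOfDetOne_val, h]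

theorem mem_subspaceStabilizer_iff (W : Submodule F (Fin n → F)) (g : GL (Fin n) F) :
    g ∈ subspaceStabilizer W ↔ ∀ v, v ∈ W ↔ (g : Matrix (Fin n) (Fin n) F) *ᵥ v ∈ W := Iff.rfl

theorem mem_similarityGroup_iff (f : (Fin n → F) → (Fin n → F) → F) (g : GL (Fin n) F) :
    g ∈ similarityGroup f ↔ ∃ c : Fˣ, ∀ u v,
      f ((g : Matrix (Fin n) (Fin n) F) *ᵥ u) ((g : Matrix (Fin n) (Fin n) F) *ᵥ v) = (c : F) * f u v :=
  Iff.rfl

theorem mem_quadSimilarityGroup_iff (Q : (Fin n → F) → F) (g : GL (Fin n) F) :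
    g ∈ quadSimilarityGroup Q ↔ ∃ c : Fˣ, ∀ v,
      Q ((g : Matrix (Fin n) (Fin n) F) *ᵥ v) = (c : F) * Q v :=
  Iff.rfl

theorem mem_decompositionStabilizer_iff {t : ℕ} (D : Fin t → Submodule F (Fin n → F))
    (g : GL (Fin n) F) :
    g ∈ decompositionStabilizer D ↔ ∃ σ : Equiv.Perm (Fin t),
      ∀ i, (D i).map (Matrix.toLin' (g : Matrix (Fin n) (Fin n) F)) = D (σ i) := Iff.rfl

theorem mem_subalgebraNormalizer_iff (K : Subalgebra F (Matrix (Fin n) (Fin n) F))
    (g : GL (Fin n) F) :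
    g ∈ subalgebraNormalizer K ↔ ∀ k : Matrix (Fin n) (Fin n) F,
      k ∈ K ↔ (g : Matrix (Fin n) (Fin n) F) * k * ((g⁻¹ : GL (Fin n) F) : Matrix (Fin n) (Fin n) F) ∈ K :=
  Iff.rfl

theorem mem_matrixSet_iff (R : Subgroup (GL (Fin n) F)) (s : Matrix (Fin n) (Fin n) F) :
    s ∈ matrixSet R ↔ ∃ g ∈ R, (g : Matrix (Fin n) (Fin n) F) = s := Iff.rfl

theorem coe_mem_matrixSet {R : Subgroup (GL (Fin n) F)} {g : GL (Fin n) F} (hg : g ∈ R) :
    (g : Matrix (Fin n) (Fin n) F) ∈ matrixSet R := ⟨g, hg, rfl⟩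

/-- A scalar matrix as an element of `GL`. -/
theorem scalar_mem_scalars_iff (g : GL (Fin n) F) :
    g ∈ scalars (Fin n) F ↔ ∃ c : F, (g : Matrix (Fin n) (Fin n) F) = c • (1 : Matrix (Fin n) (Fin n) F) := by
  rw [mem_scalars_iff]
  constructor
  · rintro ⟨c, hc⟩
    exact ⟨c, hc⟩
  · rintro ⟨c, hc⟩
    by_cases hn : n = 0
    · subst hn
      exact ⟨1, Subsingleton.elim _ _⟩
    have : NeZero n := ⟨hn⟩
    have hc0 : c ≠ 0 := by
      rintro rfl
      have h1 : (g : Matrix (Fin n) (Fin n) F) * ((g⁻¹ : GL (Fin n) F) : Matrix (Fin n) (Fin n) F) = 1 := by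
        rw [← Units.val_mul, mul_inv_cancel, Units.val_one]
      rw [hc, zero_smul, zero_mul] at h1
      have h2 := congrFun (congrFun h1 0) 0
      simp at h2
    exact ⟨Units.mk0 c hc0, hc⟩

/-- Scalars commute with everything. -/
theorem scalars_comm {z : GL (Fin n) F} (hz : z ∈ scalars (Fin n) F) (g : GL (Fin n) F) :
    z * g = g * z := by
  obtain ⟨c, hc⟩ := (mem_scalars_iff z).mp hz
  apply Units.ext
  rw [Units.val_mul, Units.val_mul, hc, Matrix.smul_mul, Matrix.mul_smul, Matrix.one_mul, Matrix.mul_one]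

theorem mulVec_inv_cancel (g : GL (Fin n) F) (v : Fin n → F) :
    ((g⁻¹ : GL (Fin n) F) : Matrix (Fin n) (Fin n) F) *ᵥ ((g : Matrix (Fin n) (Fin n) F) *ᵥ v) = v := by
  rw [Matrix.mulVec_mulVec, ← Units.val_mul, inv_mul_cancel, Units.val_one, Matrix.one_mulVec]

theorem mulVec_cancel_inv (g : GL (Fin n) F) (v : Fin n → F) :
    (g : Matrix (Fin n) (Fin n) F) *ᵥ (((g⁻¹ : GL (Fin n) F) : Matrix (Fin n) (Fin n) F) *ᵥ v) = v := by
  rw [Matrix.mulVec_mulVec, ← Units.val_mul, mul_inv_cancel, Units.val_one, Matrix.one_mulVec]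

theorem mulVec_injective (g : GL (Fin n) F) :
    Function.Injective (fun v : Fin n → F => (g : Matrix (Fin n) (Fin n) F) *ᵥ v) := by
  intro v w h
  have := congrArg (fun x => ((g⁻¹ : GL (Fin n) F) : Matrix (Fin n) (Fin n) F) *ᵥ x) h
  simpa [mulVec_inv_cancel] using this

end Cfsg.Agent.Helper97
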