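/-
helper97: piece BD of CALL S5953 (helper90), verbatim statement: `r ∣ q + 1`, a diagonal element of
`SU_n(q)` of order `r` with many odd multiplicities fixes no totally isotropic `m`-space.
Core in `Helper97.HTBDCore`, diagonal obstruction DIAGOBS by helper19.
-/
import Mathlib
import Cfsg.Agent.Helper90.HTDefs
import Cfsg.Agent.Helper97.HTBDCore
import Cfsg.Agent.Helper19.HTDIAGOBS

set_option autoImplicit false
set_option linter.unusedSectionVars false

namespace Cfsg.Agent.Helper97.HT5953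

open Module Polynomial Cfsg.Agent.Helper90.HT

variable {F : Type*} [Field F] [Fintype F] (q : ℕ) (hq : Fintype.card F = q ^ 2)

include hq

/-- BD (uses DIAGOBS): `r ∣ q + 1`, diagonal element with many odd multiplicities. -/
theorem bad_diag_u (r : ℕ) [Fact r.Prime] (hr2 : 2 < r) (hrq : r ∣ q + 1) (n m : ℕ)
    (hn : 3 ≤ n) (hm : 1 ≤ m) (hmn : 2 * m ≤ n) (hbad : n + 2 ≤ r + 2 * m) :
    ∃ x : Matrix.SpecialLinearGroup (Fin n) F, x ∈ Cfsg.SU n F q ∧ x ^ r = 1 ∧
      (∀ z : F, (x : Matrix (Fin n) (Fin n) F) ≠ z • 1) ∧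
      ∀ W : Submodule F (Fin n → F), (∀ u ∈ W, ∀ v ∈ W, Cfsg.hermForm n F q u v = 0) →
        W.map (Matrix.toLin' (x : Matrix (Fin n) (Fin n) F)) ≤ W → finrank F W < m :=
  Cfsg.Agent.Helper97.HTBDCore.bad_diag_core q hq r hr2 hrq n m hn hm hmn hbad
    (fun inst d W hTI hW =>
      @Cfsg.Agent.Helper19.HT5953.ht_diag_obs F _ _ inst q hq n d W hTI hW)

end Cfsg.Agent.Helper97.HT5953
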