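import Mathlib

set_option autoImplicit false

/-! CALL LM (helper21, S4067), piece XO (double by helper97). -/

namespace Cfsg.Agent.Helper97.LM

open scoped commutatorElement

/-- `h ^ n * g = g * h ^ n * z ^ n` when `h * g = g * h * z` and `z` is central. -/
theorem lmxo_pow_swap {G : Type*} [Group G] (g h z : G) (hz : ∀ x : G, x * z = z * x)
    (hgh : h * g = g * h * z) (n : ℕ) : h ^ n * g = g * h ^ n * z ^ n := by
  induction n with
  | zero => simp
  | succ n ih =>
    have hzn : ∀ x : G, x * z ^ n = z ^ n * x := fun x => (Commute.pow_right (hz x) n).eq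
    calc h ^ (n + 1) * g = h * (h ^ n * g) := by rw [pow_succ', mul_assoc]
      _ = h * (g * h ^ n * z ^ n) := by rw [ih]
      _ = (h * g) * h ^ n * z ^ n := by simp only [mul_assoc]
      _ = g * h * z * h ^ n * z ^ n := by rw [hgh]
      _ = g * (h * h ^ n) * (z * z ^ n) := by
          rw [mul_assoc (g * h) z, ← hz (h ^ n)]; simp only [mul_assoc]
      _ = g * h ^ (n + 1) * z ^ (n + 1) := by rw [← pow_succ', ← pow_succ']

/-- `(g * h) ^ n = g ^ n * h ^ n * z ^ (n choose 2)` when `h * g = g * h * z`, `z` central. -/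
theorem lmxo_mul_pow {G : Type*} [Group G] (g h z : G) (hz : ∀ x : G, x * z = z * x)
    (hgh : h * g = g * h * z) (n : ℕ) :
    (g * h) ^ n = g ^ n * h ^ n * z ^ (n.choose 2) := by
  induction n with
  | zero => simp
  | succ n ih =>
    have hzn : ∀ (k : ℕ) (x : G), x * z ^ k = z ^ k * x :=
      fun k x => (Commute.pow_right (hz x) k).eq
    have hsw := lmxo_pow_swap g h z hz hgh n
    have hch : (n + 1).choose 2 = n.choose 2 + n := by
      rw [Nat.choose_succ_succ' n 1, Nat.choose_one_right, add_comm]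
    calc (g * h) ^ (n + 1) = (g * h) ^ n * (g * h) := pow_succ _ _
      _ = g ^ n * h ^ n * z ^ (n.choose 2) * (g * h) := by rw [ih]
      _ = g ^ n * (h ^ n * g) * h * z ^ (n.choose 2) := by
          rw [mul_assoc (g ^ n * h ^ n) (z ^ (n.choose 2)) (g * h), ← hzn (n.choose 2) (g * h)]
          simp only [mul_assoc]
      _ = g ^ n * (g * h ^ n * z ^ n) * h * z ^ (n.choose 2) := by rw [hsw]
      _ = (g ^ n * g) * (h ^ n * h) * (z ^ (n.choose 2) * z ^ n) := by
          simp only [mul_assoc]
          rw [← hzn n (h * z ^ (n.choose 2))]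
          simp only [mul_assoc]
      _ = g ^ (n + 1) * h ^ (n + 1) * z ^ ((n + 1).choose 2) := by
          rw [← pow_succ, ← pow_succ, ← pow_add, hch]

/-- XO: `p` odd: a central element of order `p` outside `G'`, or a non-central element of order `p`. -/
theorem lm_xo {G : Type*} [Group G] [Finite G] (hZ : commutator G ≤ Subgroup.center G)
    (hc : Nat.card (commutator G) = (Nat.card G).minFac) (hna : ¬ IsMulCommutative G)
    (hodd : (Nat.card G).minFac ≠ 2) :
    (∃ c : G, c ∈ Subgroup.center G ∧ orderOf c = (Nat.card G).minFac ∧ c ∉ commutator G) ∨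
      (∃ x : G, x ∉ Subgroup.center G ∧ x ^ (Nat.card G).minFac = 1) := by
  classical
  obtain ⟨p, hp_def⟩ : ∃ p : ℕ, p = (Nat.card G).minFac := ⟨_, rfl⟩
  rw [← hp_def] at hc hodd ⊢
  by_contra hcon
  rw [not_or] at hcon
  obtain ⟨h1, h2⟩ := hcon
  have h1' : ∀ c : G, c ∈ Subgroup.center G → orderOf c = p → c ∈ commutator G := by
    intro c hcZ hco
    by_contra hcG
    exact h1 ⟨c, hcZ, hco, hcG⟩
  have h2' : ∀ x : G, x ^ p = 1 → x ∈ Subgroup.center G := by
    intro x hx
    by_contra hxc
    exact h2 ⟨x, hxc, hx⟩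
  have hcard1 : Nat.card G ≠ 1 := by
    intro h
    apply hna
    have : Subsingleton G := (Nat.card_eq_one_iff_unique.mp h).1
    exact ⟨⟨fun a b => Subsingleton.elim _ _⟩⟩
  have hp : p.Prime := by rw [hp_def]; exact Nat.minFac_prime hcard1
  have : Fact p.Prime := ⟨hp⟩
  have hcomm_mem : ∀ a b : G, ⁅a, b⁆ ∈ commutator G := fun a b => by
    rw [commutator_def]
    exact Subgroup.commutator_mem_commutator (Subgroup.mem_top a) (Subgroup.mem_top b)
  have hcomm_pow : ∀ w : G, w ∈ commutator G → w ^ p = 1 := fun w hw => by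
    have h := pow_card_eq_one' (G := commutator G) (x := ⟨w, hw⟩)
    rw [hc] at h
    have h' := congrArg Subtype.val h
    simpa using h'
  have hcomm_cent : ∀ w : G, w ∈ commutator G → ∀ x : G, x * w = w * x := fun w hw x =>
    Subgroup.mem_center_iff.mp (hZ hw) x
  have hrel : ∀ g h : G, h * g = g * h * ⁅h⁻¹, g⁻¹⁆ := fun g h => by
    rw [commutatorElement_def]; group
  have hdvd : p ∣ p.choose 2 :=
    hp.dvd_choose_self (by norm_num) (lt_of_le_of_ne hp.two_le (Ne.symm hodd))
  have hmul : ∀ g h : G, (g * h) ^ p = g ^ p * h ^ p := fun g h => by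
    have hz := hcomm_mem h⁻¹ g⁻¹
    rw [lmxo_mul_pow g h _ (hcomm_cent _ hz) (hrel g h) p]
    obtain ⟨k, hk⟩ := hdvd
    rw [hk, pow_mul, hcomm_pow _ hz, one_pow, mul_one]
  have hpow_cent : ∀ h : G, h ^ p ∈ Subgroup.center G := fun h => by
    rw [Subgroup.mem_center_iff]
    intro g
    have hz := hcomm_mem h⁻¹ g⁻¹
    have h3 := lmxo_pow_swap g h _ (hcomm_cent _ hz) (hrel g h) p
    rw [hcomm_pow _ hz, mul_one] at h3
    exact h3.symm
  let φ : G →* G := MonoidHom.mk' (fun g => g ^ p) hmul
  have hφ : ∀ g : G, φ g = g ^ p := fun g => rfl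
  have hker : φ.ker ≤ Subgroup.center G := fun x hx => h2' x (by
    rw [← hφ]; exact MonoidHom.mem_ker.mp hx)
  have hrange : φ.range ≤ Subgroup.center G := by
    rintro _ ⟨g, rfl⟩
    rw [hφ]
    exact hpow_cent g
  have hZcard : Nat.card (Subgroup.center G) * (Subgroup.center G).index = Nat.card G :=
    Subgroup.card_mul_index _
  have hkercard : Nat.card φ.ker * Nat.card φ.range = Nat.card G := by
    rw [← Subgroup.index_ker]; exact Subgroup.card_mul_index _
  have hrange_le : Nat.card φ.range ≤ Nat.card (Subgroup.center G) :=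
    Subgroup.card_le_of_le hrange
  have hZpos : 0 < Nat.card (Subgroup.center G) := Nat.card_pos
  obtain ⟨i, hi_def⟩ : ∃ i : ℕ, i = (Subgroup.center G).index := ⟨_, rfl⟩
  rw [← hi_def] at hZcard
  have hidx_le : i ≤ Nat.card φ.ker := by
    have h4 : Nat.card (Subgroup.center G) * i ≤
        Nat.card (Subgroup.center G) * Nat.card φ.ker := by
      rw [hZcard, ← hkercard, mul_comm (Nat.card (Subgroup.center G))]
      exact Nat.mul_le_mul_left _ hrange_le
    exact Nat.le_of_mul_le_mul_left h4 hZpos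
  have hi_dvd : i ∣ Nat.card G := by rw [hi_def]; exact Subgroup.index_dvd_card _
  have hi1 : i ≠ 1 := by
    intro h
    rw [hi_def, Subgroup.index_eq_one] at h
    apply hna
    refine ⟨⟨fun a b => ?_⟩⟩
    have hb : b ∈ Subgroup.center G := by rw [h]; exact Subgroup.mem_top b
    exact Subgroup.mem_center_iff.mp hb a
  have hi_np : ¬ i.Prime := by
    intro hq
    have : Fact i.Prime := ⟨hq⟩
    have : IsCyclic (G ⧸ Subgroup.center G) :=
      isCyclic_of_prime_card (p := i) (by rw [hi_def, Subgroup.index_eq_card])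
    exact hna (MonoidHom.isMulCommutative_of_isCyclic_of_ker_le_center
      (QuotientGroup.mk' (Subgroup.center G)) (by rw [QuotientGroup.ker_mk']))
  have hi0 : i ≠ 0 := by rw [hi_def]; exact Subgroup.index_ne_zero_of_finite
  have hp2 : p * p ≤ i := by
    have hq : (i.minFac).Prime := Nat.minFac_prime hi1
    have hqd : i.minFac ∣ i := Nat.minFac_dvd i
    generalize i.minFac = q at hq hqd
    obtain ⟨r, hr⟩ := hqd
    have hr1 : r ≠ 1 := by
      rintro rfl
      rw [mul_one] at hr
      exact hi_np (hr ▸ hq)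
    have hr0 : r ≠ 0 := by
      rintro rfl
      rw [mul_zero] at hr
      exact hi0 hr
    have hpq : p ≤ q := by
      rw [hp_def]
      exact Nat.minFac_le_of_dvd hq.two_le (dvd_trans ⟨r, hr⟩ hi_dvd)
    have hpr : p ≤ r := by
      have hq' : (r.minFac).Prime := Nat.minFac_prime hr1
      have h5 : p ≤ r.minFac := by
        rw [hp_def]
        exact Nat.minFac_le_of_dvd hq'.two_le
          (dvd_trans (Nat.minFac_dvd r) (dvd_trans ⟨q, by rw [hr, mul_comm]⟩ hi_dvd))
      exact h5.trans (Nat.minFac_le (Nat.pos_of_ne_zero hr0))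
    rw [hr]
    exact Nat.mul_le_mul hpq hpr
  have hnot : ¬ φ.ker ≤ commutator G := by
    intro hle
    have h6 := Subgroup.card_le_of_le hle
    rw [hc] at h6
    have h7 : p * p ≤ p := (hp2.trans hidx_le).trans h6
    nlinarith [hp.two_le]
  obtain ⟨c, hcker, hcG⟩ := SetLike.not_le_iff_exists.mp hnot
  have hcp : c ^ p = 1 := by rw [← hφ]; exact MonoidHom.mem_ker.mp hcker
  have hc1 : c ≠ 1 := by
    rintro rfl
    exact hcG (one_mem _)
  have hco : orderOf c = p := orderOf_eq_prime hcp hc1
  exact hcG (h1' c (h2' c hcp) hco)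

end Cfsg.Agent.Helper97.LM
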