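-- helper97 library: the special linear group is not contained in members of the geometric classes.
import Cfsg.Agent.Helper97.Basic

set_option autoImplicit false
open Cfsg Cfsg.Geo Matrix

namespace Cfsg.Agent.Helper97

variable {F : Type*} [Field F] {n : ℕ}

/-! ### Transvections -/

theorem transvection_mulVec (i j : Fin n) (c : F) (v : Fin n → F) :
    Matrix.transvection i j c *ᵥ v = v + (c * v j) • Pi.single i 1 := by
  ext k
  simp [Matrix.transvection, Matrix.add_mulVec, Matrix.single_mulVec, Pi.single_apply,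
    Function.update_apply]

/-- An elementary transvection as an element of `GL`. -/
noncomputable def elemTv (i j : Fin n) (hij : i ≠ j) (c : F) : GL (Fin n) F :=
  glOfDetOne (Matrix.transvection i j c) (Matrix.det_transvection_of_ne i j hij c)

theorem elemTv_val (i j : Fin n) (hij : i ≠ j) (c : F) :
    ((elemTv i j hij c : GL (Fin n) F) : Matrix (Fin n) (Fin n) F) = Matrix.transvection i j c := rfl

theorem elemTv_mem (i j : Fin n) (hij : i ≠ j) (c : F) :
    elemTv i j hij c ∈ specialLinear (Fin n) F := glOfDetOne_mem _ _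

theorem elemTv_mulVec (i j : Fin n) (hij : i ≠ j) (c : F) (v : Fin n → F) :
    ((elemTv i j hij c : GL (Fin n) F) : Matrix (Fin n) (Fin n) F) *ᵥ v
      = v + (c * v j) • Pi.single i 1 := by
  rw [elemTv_val, transvection_mulVec]

theorem genTv_det (u a : Fin n → F) (h : a ⬝ᵥ u = 0) : (1 + vecMulVec u a).det = 1 := by
  rw [vecMulVec_eq Unit, det_one_add_replicateCol_mul_replicateRow, h, add_zero]

/-- A general transvection `v ↦ v + (a ⬝ v) u` as an element of `GL`. -/
noncomputable def genTv (u a : Fin n → F) (h : a ⬝ᵥ u = 0) : GL (Fin n) F :=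
  glOfDetOne (1 + vecMulVec u a) (genTv_det u a h)

theorem genTv_val (u a : Fin n → F) (h : a ⬝ᵥ u = 0) :
    ((genTv u a h : GL (Fin n) F) : Matrix (Fin n) (Fin n) F) = 1 + vecMulVec u a := rfl

theorem genTv_mem (u a : Fin n → F) (h : a ⬝ᵥ u = 0) :
    genTv u a h ∈ specialLinear (Fin n) F := glOfDetOne_mem _ _

theorem genTv_mulVec (u a : Fin n → F) (h : a ⬝ᵥ u = 0) (v : Fin n → F) :
    ((genTv u a h : GL (Fin n) F) : Matrix (Fin n) (Fin n) F) *ᵥ v = v + (a ⬝ᵥ v) • u := by
  rw [genTv_val, Matrix.add_mulVec, Matrix.one_mulVec, Matrix.vecMulVec_mulVec, op_smul_eq_smul]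

theorem exists_dotProduct_sep {u w : Fin n → F} (h : w ∉ Submodule.span F {u}) :
    ∃ a : Fin n → F, a ⬝ᵥ u = 0 ∧ a ⬝ᵥ w = 1 := by
  obtain ⟨f, hfw, hf⟩ := Submodule.exists_dual_map_eq_bot_of_notMem h inferInstance
  have key : ∀ v : Fin n → F,
      (fun i => (f w)⁻¹ * f (fun j => if i = j then 1 else 0)) ⬝ᵥ v = (f w)⁻¹ * f v := by
    intro v
    rw [LinearMap.pi_apply_eq_sum_univ f v, dotProduct, Finset.mul_sum]
    refine Finset.sum_congr rfl fun i _ => ?_
    simp only [smul_eq_mul]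
    ring
  refine ⟨fun i => (f w)⁻¹ * f (fun j => if i = j then 1 else 0), ?_, ?_⟩
  · rw [key]
    have : f u = 0 := by
      have h1 : f u ∈ Submodule.map f (Submodule.span F {u}) :=
        Submodule.mem_map_of_mem (Submodule.mem_span_singleton_self u)
      rw [hf] at h1
      simpa using h1
    rw [this, mul_zero]
  · rw [key, inv_mul_cancel₀ hfw]

/-! ### Class 1 -/

theorem notSL_subspace (hn : 2 ≤ n) (W : Submodule F (Fin n → F)) (hW0 : W ≠ ⊥) (hW1 : W ≠ ⊤) :
    ¬ specialLinear (Fin n) F ≤ subspaceStabilizer W := by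
  intro hle
  apply hW1
  obtain ⟨w, hwW, hw0⟩ := (Submodule.ne_bot_iff W).mp hW0
  have hj : ∃ j, w j ≠ 0 := by
    by_contra hcon
    apply hw0
    funext j
    by_contra hj
    exact hcon ⟨j, hj⟩
  obtain ⟨j, hj⟩ := hj
  have hstab : ∀ (i k : Fin n) (hik : i ≠ k) (v : Fin n → F), v ∈ W →
      v + (1 * v k) • Pi.single i 1 ∈ W := by
    intro i k hik v hv
    have h1 := ((mem_subspaceStabilizer_iff W _).mp (hle (elemTv_mem i k hik 1)) v).mp hv
    rwa [elemTv_mulVec] at h1
  have hne : ∀ i, i ≠ j → (Pi.single i 1 : Fin n → F) ∈ W := by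
    intro i hij
    have h1 := hstab i j hij w hwW
    have h2 : (1 * w j) • (Pi.single i 1 : Fin n → F) ∈ W := by
      have := W.sub_mem h1 hwW
      simpa using this
    rw [one_mul] at h2
    have h3 := W.smul_mem (w j)⁻¹ h2
    rwa [smul_smul, inv_mul_cancel₀ hj, one_smul] at h3
  have hall : ∀ i, (Pi.single i 1 : Fin n → F) ∈ W := by
    intro i
    by_cases hij : i = j
    · subst hij
      obtain ⟨k, hk⟩ : ∃ k : Fin n, k ≠ i := by
        by_cases h0 : i = ⟨0, by omega⟩
        · exact ⟨⟨1, by omega⟩, by rw [h0]; simp [Fin.ext_iff]⟩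
        · exact ⟨⟨0, by omega⟩, fun h => h0 h.symm⟩
      have hk' := hne k hk
      have h1 := hstab i k hk.symm _ hk'
      have h2 : (1 * (Pi.single k 1 : Fin n → F) k) • (Pi.single i 1 : Fin n → F) ∈ W := by
        have := W.sub_mem h1 hk'
        simpa using this
      simpa using h2
    · exact hne i hij
  rw [eq_top_iff]
  intro v _
  have : v = ∑ i, v i • (Pi.single i 1 : Fin n → F) := by
    funext k
    simp [Finset.sum_apply, Pi.single_apply]
  rw [this]
  exact W.sum_mem fun i _ => W.smul_mem _ (hall i)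

/-! ### Class 2 -/

theorem notSL_decomp {t m : ℕ} (D : Fin t → Submodule F (Fin n → F))
    (hD : IsMDecomposition m D) :
    ¬ specialLinear (Fin n) F ≤ decompositionStabilizer D := by
  intro hle
  have ht := hD.two_le
  set i0 : Fin t := ⟨0, by omega⟩ with hi0
  set i1 : Fin t := ⟨1, by omega⟩ with hi1
  have h01 : i0 ≠ i1 := by simp [hi0, hi1, Fin.ext_iff]
  have hne : ∀ i, D i ≠ ⊥ := by
    intro i hbot
    have := hD.finrank_eq i
    rw [hbot, finrank_bot] at this
    have := hD.pos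
    omega
  obtain ⟨u, huD, hu0⟩ := (Submodule.ne_bot_iff _).mp (hne i0)
  obtain ⟨w, hwD, hw0⟩ := (Submodule.ne_bot_iff _).mp (hne i1)
  have hdisj : ∀ i j, i ≠ j → Disjoint (D i) (D j) := fun i j hij => hD.indep.pairwiseDisjoint hij
  have hwu : w ∉ Submodule.span F {u} := by
    intro hmem
    have h1 : w ∈ D i0 := (Submodule.span_singleton_le_iff_mem u (D i0)).mpr huD hmem
    exact hw0 ((Submodule.disjoint_def.mp (hdisj i0 i1 h01)) w h1 hwD)
  obtain ⟨a, hau, haw⟩ := exists_dotProduct_sep hwu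
  obtain ⟨σ, hσ⟩ := (mem_decompositionStabilizer_iff D _).mp (hle (genTv_mem u a hau))
  have h1 : w + u ∈ D (σ i1) := by
    rw [← hσ i1]
    refine ⟨w, hwD, ?_⟩
    rw [Matrix.toLin'_apply, genTv_mulVec, haw, one_smul]
  -- `w + u` lies in `D i0 ⊔ D i1`
  by_cases hs0 : σ i1 = i0
  · rw [hs0] at h1
    have : w ∈ D i0 := by
      have := (D i0).sub_mem h1 huD
      simpa using this
    exact hw0 ((Submodule.disjoint_def.mp (hdisj i0 i1 h01)) w this hwD)
  by_cases hs1 : σ i1 = i1
  · rw [hs1] at h1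
    have : u ∈ D i1 := by
      have := (D i1).sub_mem h1 hwD
      simpa using this
    exact hu0 ((Submodule.disjoint_def.mp (hdisj i0 i1 h01)) u huD this)
  · -- `σ i1` is a third index
    have hind := hD.indep (σ i1)
    have hle2 : D i0 ⊔ D i1 ≤ ⨆ j, ⨆ (_ : j ≠ σ i1), D j := by
      refine sup_le ?_ ?_
      · exact le_iSup₂_of_le i0 (fun h => hs0 h.symm) le_rfl
      · exact le_iSup₂_of_le i1 (fun h => hs1 h.symm) le_rfl
    have h2 : w + u ∈ D i0 ⊔ D i1 :=
      Submodule.add_mem _ (Submodule.mem_sup_right hwD) (Submodule.mem_sup_left huD)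
    have h3 : w + u = 0 := (Submodule.disjoint_def.mp hind) _ h1 (hle2 h2)
    have h4 : w = -u := eq_neg_of_add_eq_zero_left h3
    have : w ∈ D i0 := by rw [h4]; exact (D i0).neg_mem huD
    exact hw0 ((Submodule.disjoint_def.mp (hdisj i0 i1 h01)) w this hwD)

/-! ### Class 3 -/

theorem eq_zero_of_mulVec_eq_zero_of_inv (K : Subalgebra F (Matrix (Fin n) (Fin n) F))
    (hinv : ∀ x ∈ K, x ≠ 0 → ∃ y ∈ K, x * y = 1) {k : Matrix (Fin n) (Fin n) F} (hk : k ∈ K)
    {v : Fin n → F} (hv : v ≠ 0) (hkv : k *ᵥ v = 0) : k = 0 := by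
  by_contra hk0
  obtain ⟨y, -, hy⟩ := hinv k hk hk0
  have hy' : y * k = 1 := mul_eq_one_comm.mp hy
  apply hv
  have := congrArg (fun w => y *ᵥ w) hkv
  simpa [Matrix.mulVec_mulVec, hy'] using this

theorem notSL_fieldNormalizer (hn : 3 ≤ n) (K : Subalgebra F (Matrix (Fin n) (Fin n) F))
    (hinv : ∀ x ∈ K, x ≠ 0 → ∃ y ∈ K, x * y = 1)
    (hK : ¬ ∀ k ∈ K, ∃ c : F, k = c • (1 : Matrix (Fin n) (Fin n) F)) :
    ¬ specialLinear (Fin n) F ≤ subalgebraNormalizer K := by
  intro hle
  apply hK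
  set i0 : Fin n := ⟨0, by omega⟩ with hi0
  have he0 : (Pi.single i0 1 : Fin n → F) ≠ 0 := by
    intro h
    have := congrFun h i0
    simp at this
  have hB : ∀ k ∈ K, ∀ j, j ≠ i0 → k j i0 = 0 := by
    intro k hk j hj
    obtain ⟨l, hl0, hlj⟩ : ∃ l : Fin n, l ≠ i0 ∧ l ≠ j := by
      by_cases h1 : j = ⟨1, by omega⟩
      · exact ⟨⟨2, by omega⟩, by simp [hi0, Fin.ext_iff], by rw [h1]; simp [Fin.ext_iff]⟩
      · exact ⟨⟨1, by omega⟩, by simp [hi0, Fin.ext_iff], fun h => h1 h.symm⟩
    set t : GL (Fin n) F := elemTv i0 j hj.symm 1 with ht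
    have htk : (t : Matrix (Fin n) (Fin n) F) * k * ((t⁻¹ : GL (Fin n) F) : Matrix (Fin n) (Fin n) F) ∈ K :=
      ((mem_subalgebraNormalizer_iff K t).mp (hle (elemTv_mem i0 j hj.symm 1)) k).mp hk
    set κ : Matrix (Fin n) (Fin n) F :=
      (t : Matrix (Fin n) (Fin n) F) * k * ((t⁻¹ : GL (Fin n) F) : Matrix (Fin n) (Fin n) F) - k
        - (k j i0) • (1 : Matrix (Fin n) (Fin n) F) with hκ
    have hκK : κ ∈ K := K.sub_mem (K.sub_mem htk hk) (K.smul_mem K.one_mem _)
    have hte0 : (t : Matrix (Fin n) (Fin n) F) *ᵥ (Pi.single i0 1 : Fin n → F) = Pi.single i0 1 := by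
      rw [ht, elemTv_mulVec]
      simp [Pi.single_apply, hj]
    have htie0 : ((t⁻¹ : GL (Fin n) F) : Matrix (Fin n) (Fin n) F) *ᵥ (Pi.single i0 1 : Fin n → F)
        = Pi.single i0 1 := by
      conv_lhs => rw [← hte0]
      exact mulVec_inv_cancel t _
    have hκe : κ *ᵥ (Pi.single i0 1 : Fin n → F) = 0 := by
      rw [hκ, Matrix.sub_mulVec, Matrix.sub_mulVec, ← Matrix.mulVec_mulVec, ← Matrix.mulVec_mulVec,
        htie0, ht, elemTv_mulVec, Matrix.smul_mulVec, Matrix.one_mulVec]
      have : (k *ᵥ (Pi.single i0 1 : Fin n → F)) j = k j i0 := by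
        simp [Matrix.mulVec_single_one]
      rw [this, one_mul]
      abel
    have hκ0 : κ = 0 := eq_zero_of_mulVec_eq_zero_of_inv K hinv hκK he0 hκe
    have h1 : (t : Matrix (Fin n) (Fin n) F) * k
        = (k + (k j i0) • (1 : Matrix (Fin n) (Fin n) F)) * (t : Matrix (Fin n) (Fin n) F) := by
      have h2 : (t : Matrix (Fin n) (Fin n) F) * k * ((t⁻¹ : GL (Fin n) F) : Matrix (Fin n) (Fin n) F)
          = k + (k j i0) • (1 : Matrix (Fin n) (Fin n) F) := by
        have h5 : (t : Matrix (Fin n) (Fin n) F) * k * ((t⁻¹ : GL (Fin n) F) : Matrix (Fin n) (Fin n) F) - k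
            - (k j i0) • (1 : Matrix (Fin n) (Fin n) F) = 0 := by rw [← hκ0, hκ]
        have h6 := sub_eq_zero.mp h5
        have h7 := sub_eq_iff_eq_add.mp h6
        rw [h7, add_comm]
      rw [← h2, mul_assoc, mul_assoc, ← Units.val_mul, inv_mul_cancel, Units.val_one, mul_one]
    have h3 := congrFun (congrFun h1 l) l
    rw [ht, elemTv_val, Matrix.transvection_mul_apply_of_ne _ _ _ _ hl0,
      Matrix.mul_transvection_apply_of_ne _ _ _ _ hlj] at h3
    simpa using h3
  intro k hk
  refine ⟨k i0 i0, ?_⟩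
  have h1 : (k - (k i0 i0) • (1 : Matrix (Fin n) (Fin n) F)) *ᵥ (Pi.single i0 1 : Fin n → F) = 0 := by
    rw [Matrix.sub_mulVec, Matrix.smul_mulVec, Matrix.one_mulVec]
    funext j
    by_cases hj : j = i0
    · subst hj
      simp [Matrix.mulVec_single_one]
    · simp [Matrix.mulVec_single_one, hB k hk j hj, Pi.single_apply, hj]
  have := eq_zero_of_mulVec_eq_zero_of_inv K hinv
    (K.sub_mem hk (K.smul_mem K.one_mem _)) he0 h1
  exact sub_eq_zero.mp this

/-! ### Class 5 -/

theorem notSL_subfield (hn : 2 ≤ n) (F₀ : Subfield F) (hF₀ : F₀ ≠ ⊤) (P : GL (Fin n) F) :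
    ¬ specialLinear (Fin n) F ≤ subfieldSubgroup F₀ P := by
  intro hle
  obtain ⟨c, hc⟩ : ∃ c : F, c ∉ F₀ := by
    by_contra hcon
    apply hF₀
    rw [eq_top_iff]
    intro x _
    by_contra hx
    exact hcon ⟨x, hx⟩
  set i0 : Fin n := ⟨0, by omega⟩ with hi0
  set i1 : Fin n := ⟨1, by omega⟩ with hi1
  have h01 : i0 ≠ i1 := by simp [hi0, hi1, Fin.ext_iff]
  set t : GL (Fin n) F := elemTv i0 i1 h01 c with ht
  have hN : (specialLinear (Fin n) F).Normal := by
    rw [specialLinear]; exact MonoidHom.normal_ker _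
  have hmem : P * t * P⁻¹ ∈ subfieldSubgroup F₀ P := hle (hN.conj_mem t (elemTv_mem i0 i1 h01 c) P)
  rw [subfieldSubgroup, Subgroup.mem_map] at hmem
  obtain ⟨y, hy, hyt⟩ := hmem
  have hyt' : y = t := by
    have : P * y * P⁻¹ = P * t * P⁻¹ := hyt
    have h2 := congrArg (fun g => P⁻¹ * g * P) this
    simpa [mul_assoc] using h2
  rw [hyt'] at hy
  obtain ⟨a, ha, b, hb, hab⟩ := Subgroup.mem_sup_of_normal_right.mp hy
  obtain ⟨a', rfl⟩ := ha
  obtain ⟨d, hd⟩ := (mem_scalars_iff b).mp hb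
  have hval : (t : Matrix (Fin n) (Fin n) F)
      = (d : F) • ((a' : Matrix (Fin n) (Fin n) F₀).map (F₀.subtype)) := by
    rw [← hab, Units.val_mul, hd, Matrix.mul_smul, Matrix.mul_one]
    rfl
  have h00 := congrFun (congrFun hval i0) i0
  have h01' := congrFun (congrFun hval i0) i1
  rw [ht, elemTv_val] at h00 h01'
  simp [Matrix.transvection, h01, h01.symm, Matrix.single_apply] at h00 h01'
  -- `1 = d * a' 0 0` and `c = d * a' 0 1`
  have hd0 : (d : F) ∈ F₀ := by
    have h1 : ((a' : Matrix (Fin n) (Fin n) F₀) i0 i0 : F) ≠ 0 := by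
      intro h
      rw [h, mul_zero] at h00
      exact one_ne_zero h00
    have h2 : (d : F) = ((a' : Matrix (Fin n) (Fin n) F₀) i0 i0 : F)⁻¹ := by
      field_simp
      exact h00.symm
    rw [h2]
    exact F₀.inv_mem (SetLike.coe_mem _)
  apply hc
  rw [h01']
  exact F₀.mul_mem hd0 (SetLike.coe_mem _)

/-! ### Class 6 -/

theorem notSL_normalizer (R : Subgroup (GL (Fin n) F)) (r : ℕ) (hr : (r : F) ≠ 0)
    (hR : ∀ g ∈ R, g ^ r = 1)
    (x : GL (Fin n) F) (hx : x ∈ R) (u a : Fin n → F) (lam mu : F) (hu : u ≠ 0) (ha : a ≠ 0)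
    (hxu : (x : Matrix (Fin n) (Fin n) F) *ᵥ u = lam • u)
    (hax : a ᵥ* (x : Matrix (Fin n) (Fin n) F) = mu • a) (hne : lam ≠ mu) :
    ¬ specialLinear (Fin n) F ≤ subgroupNormalizer R := by
  intro hle
  have hphi : ∀ v, a ⬝ᵥ ((x : Matrix (Fin n) (Fin n) F) *ᵥ v) = mu * (a ⬝ᵥ v) := by
    intro v
    rw [Matrix.dotProduct_mulVec, hax, smul_dotProduct, smul_eq_mul]
  have hau : a ⬝ᵥ u = 0 := by
    have h1 := hphi u
    rw [hxu, dotProduct_smul, smul_eq_mul] at h1
    have h2 : (lam - mu) * (a ⬝ᵥ u) = 0 := by rw [sub_mul, h1, sub_self]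
    rcases mul_eq_zero.mp h2 with h | h
    · exact absurd (sub_eq_zero.mp h) hne
    · exact h
  have hlam : lam ≠ 0 := by
    rintro rfl
    rw [zero_smul] at hxu
    apply hu
    have := mulVec_injective x (by simpa using hxu : (x : Matrix (Fin n) (Fin n) F) *ᵥ u
      = (x : Matrix (Fin n) (Fin n) F) *ᵥ 0)
    exact this
  set t : GL (Fin n) F := genTv u a hau with ht
  have htN : t ∈ Subgroup.normalizer (R : Set (GL (Fin n) F)) := hle (genTv_mem u a hau)
  have htx : t * x * t⁻¹ ∈ R := (Subgroup.mem_normalizer_iff.mp htN x).mp hx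
  set g : GL (Fin n) F := t * x * t⁻¹ * x⁻¹ with hg
  have hgR : g ∈ R := R.mul_mem htx (R.inv_mem hx)
  have htinv : ∀ v, ((t⁻¹ : GL (Fin n) F) : Matrix (Fin n) (Fin n) F) *ᵥ v = v - (a ⬝ᵥ v) • u := by
    intro v
    apply mulVec_injective t
    simp only
    rw [mulVec_cancel_inv, ht, genTv_mulVec, dotProduct_sub, dotProduct_smul, hau, smul_zero, sub_zero]
    abel
  have hgx : ∀ v, (g : Matrix (Fin n) (Fin n) F) *ᵥ ((x : Matrix (Fin n) (Fin n) F) *ᵥ v)
      = (x : Matrix (Fin n) (Fin n) F) *ᵥ v + ((mu - lam) * (a ⬝ᵥ v)) • u := by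
    intro v
    rw [hg, Units.val_mul, Units.val_mul, Units.val_mul, ← Matrix.mulVec_mulVec, mulVec_inv_cancel,
      ← Matrix.mulVec_mulVec, ← Matrix.mulVec_mulVec, htinv, Matrix.mulVec_sub, Matrix.mulVec_smul,
      hxu, ht, genTv_mulVec, dotProduct_sub, hphi, dotProduct_smul, dotProduct_smul, hau]
    simp only [smul_eq_mul, mul_zero, sub_zero, smul_smul]
    rw [sub_mul, sub_smul]
    have : mu * (a ⬝ᵥ v) = (a ⬝ᵥ v) * mu := mul_comm _ _
    rw [mul_comm mu, mul_comm lam]
    abel
  have hgu : (g : Matrix (Fin n) (Fin n) F) *ᵥ u = u := by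
    have h1 := hgx u
    rw [hau, mul_zero, zero_smul, add_zero, hxu, Matrix.mulVec_smul] at h1
    have h2 := congrArg (fun w => lam⁻¹ • w) h1
    simpa [smul_smul, inv_mul_cancel₀ hlam] using h2
  have hpow : ∀ (k : ℕ) (v : Fin n → F),
      ((g ^ k : GL (Fin n) F) : Matrix (Fin n) (Fin n) F) *ᵥ ((x : Matrix (Fin n) (Fin n) F) *ᵥ v)
      = (x : Matrix (Fin n) (Fin n) F) *ᵥ v + ((k : F) * ((mu - lam) * (a ⬝ᵥ v))) • u := by
    intro k
    induction k with
    | zero => intro v; simp
    | succ k ih =>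
      intro v
      rw [pow_succ', Units.val_mul, ← Matrix.mulVec_mulVec, ih, Matrix.mulVec_add, hgx,
        Matrix.mulVec_smul, hgu, add_assoc, ← add_smul]
      push_cast
      ring_nf
  obtain ⟨i, hi⟩ : ∃ i, a i ≠ 0 := by
    by_contra hcon
    apply ha
    funext i
    by_contra hi
    exact hcon ⟨i, hi⟩
  have h1 := hpow r (Pi.single i 1)
  rw [hR g hgR, Units.val_one, Matrix.one_mulVec] at h1
  have h2 : ((r : F) * ((mu - lam) * (a ⬝ᵥ (Pi.single i 1 : Fin n → F)))) • u = 0 := by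
    have := h1.symm
    simpa using this
  rcases smul_eq_zero.mp h2 with h | h
  · rcases mul_eq_zero.mp h with h | h
    · exact hr h
    · rcases mul_eq_zero.mp h with h | h
      · exact hne (sub_eq_zero.mp h).symm
      · simp at h
        exact hi h
  · exact hu h

/-! ### Class 8 -/

theorem notSL_similarity {p : ℕ} [Fact p.Prime] [CharP F p] (hn : 3 ≤ n)
    (f : (Fin n → F) → (Fin n → F) → F)
    (hadd_left : ∀ x y v, f (x + y) v = f x v + f y v)
    (hadd_right : ∀ v x y, f v (x + y) = f v x + f v y)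
    (hnd : ∀ v, v ≠ 0 → ∃ x, f x v ≠ 0) :
    ¬ specialLinear (Fin n) F ≤ similarityGroup f := by
  intro hle
  have hzero_left : ∀ y, f 0 y = 0 := by
    intro y
    have := hadd_left 0 0 y
    rw [add_zero] at this
    exact left_eq_add.mp this
  set i0 : Fin n := ⟨0, by omega⟩ with hi0
  set i1 : Fin n := ⟨1, by omega⟩ with hi1
  set i2 : Fin n := ⟨2, by omega⟩ with hi2
  have h01 : i0 ≠ i1 := by simp [hi0, hi1, Fin.ext_iff]
  have h12 : i1 ≠ i2 := by simp [hi1, hi2, Fin.ext_iff]
  have h02 : i0 ≠ i2 := by simp [hi0, hi2, Fin.ext_iff]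
  have he0 : (Pi.single i0 1 : Fin n → F) ≠ 0 := by
    intro h
    have := congrFun h i0
    simp at this
  obtain ⟨x0, hx0⟩ := hnd _ he0
  -- every elementary transvection is an isometry
  have hiso : ∀ (i j : Fin n) (hij : i ≠ j) (c : F) (u v : Fin n → F),
      f (u + (c * u j) • Pi.single i 1) (v + (c * v j) • Pi.single i 1) = f u v := by
    intro i j hij c
    obtain ⟨d, hd⟩ := (mem_similarityGroup_iff f _).mp (hle (elemTv_mem i j hij c))
    simp only [elemTv_mulVec] at hd
    have hpow : ∀ (k : ℕ) (u v : Fin n → F),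
        f (u + ((k : F) * c * u j) • Pi.single i 1) (v + ((k : F) * c * v j) • Pi.single i 1)
          = (d : F) ^ k * f u v := by
      intro k
      induction k with
      | zero => intro u v; simp
      | succ k ih =>
        intro u v
        have h1 := hd (u + ((k : F) * c * u j) • Pi.single i 1) (v + ((k : F) * c * v j) • Pi.single i 1)
        rw [ih] at h1
        have e1 : ∀ w : Fin n → F, w + ((k : F) * c * w j) • (Pi.single i 1 : Fin n → F)
            + (c * (w + ((k : F) * c * w j) • (Pi.single i 1 : Fin n → F)) j) • (Pi.single i 1 : Fin n → F)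
            = w + (((k + 1 : ℕ) : F) * c * w j) • Pi.single i 1 := by
          intro w
          have : (w + ((k : F) * c * w j) • (Pi.single i 1 : Fin n → F)) j = w j := by
            simp [Pi.single_apply, hij.symm]
          rw [this, add_assoc, ← add_smul]
          push_cast
          ring_nf
        rw [e1, e1] at h1
        rw [h1, pow_succ]
        ring
    have h1 := hpow p
    have hp0 : ((p : ℕ) : F) = 0 := CharP.cast_eq_zero F p
    have hdp : (d : F) ^ p = 1 := by
      have h2 := h1 x0 (Pi.single i0 1)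
      rw [hp0] at h2
      simp only [zero_mul, zero_smul, add_zero] at h2
      have h3 : ((d : F) ^ p - 1) * f x0 (Pi.single i0 1) = 0 := by
        rw [sub_mul, ← h2, one_mul, sub_self]
      rcases mul_eq_zero.mp h3 with h | h
      · exact sub_eq_zero.mp h
      · exact absurd h hx0
    have hd1 : (d : F) = 1 := by
      apply frobenius_inj F p
      rw [frobenius_def, frobenius_def, hdp, one_pow]
    intro u v
    have := hd u v
    rwa [hd1, one_mul] at this
  -- the adjoint relation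
  have hR : ∀ (i j : Fin n) (hij : i ≠ j) (x y : Fin n → F),
      f (-(x j • Pi.single i 1)) y = f x (y j • Pi.single i 1) := by
    intro i j hij x y
    have h1 := hiso i j hij 1 (x + (-1 * x j) • Pi.single i 1) y
    have e1 : x + (-1 * x j) • (Pi.single i 1 : Fin n → F)
        + (1 * (x + (-1 * x j) • (Pi.single i 1 : Fin n → F)) j) • (Pi.single i 1 : Fin n → F) = x := by
      have : (x + (-1 * x j) • (Pi.single i 1 : Fin n → F)) j = x j := by
        simp [Pi.single_apply, hij.symm]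
      rw [this, add_assoc, ← add_smul]
      simp
    rw [e1, hadd_right, hadd_left] at h1
    have h2 : f ((-1 * x j) • (Pi.single i 1 : Fin n → F)) y = f x ((1 * y j) • Pi.single i 1) := by
      linear_combination -h1
    simpa using h2
  have hfin : ∀ x, f x (Pi.single i0 1) = 0 := by
    intro x
    have h1 := hR i0 i1 h01 x (Pi.single i1 1)
    simp only [Pi.single_eq_same, one_smul] at h1
    rw [← h1]
    have h2 := hR i1 i2 h12 (-(x i1 • Pi.single i0 1)) (Pi.single i2 1)
    simp only [Pi.single_eq_same, one_smul] at h2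
    rw [← h2]
    have : (-(x i1 • (Pi.single i0 1 : Fin n → F))) i2 = 0 := by
      simp [Pi.single_apply, h02.symm]
    rw [this, zero_smul, neg_zero, hzero_left]
  exact hx0 (hfin x0)

theorem quadSimilarityGroup_le (Q : (Fin n → F) → F) :
    quadSimilarityGroup Q ≤ similarityGroup (QuadraticMap.polar Q) := by
  intro g hg
  obtain ⟨c, hc⟩ := (mem_quadSimilarityGroup_iff Q g).mp hg
  refine (mem_similarityGroup_iff _ g).mpr ⟨c, fun u v => ?_⟩
  simp only [QuadraticMap.polar]
  rw [← Matrix.mulVec_add, hc, hc, hc]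
  ring

theorem notSL_quadSimilarity {p : ℕ} [Fact p.Prime] [CharP F p] (hn : 3 ≤ n)
    (Q : (Fin n → F) → F) (hQ : IsNondegenerateQuadraticForm Q) :
    ¬ specialLinear (Fin n) F ≤ quadSimilarityGroup Q := by
  intro hle
  exact notSL_similarity (p := p) hn (QuadraticMap.polar Q) hQ.polar_bilinear.add_left
    hQ.polar_bilinear.add_right (fun v hv => (hQ.nondegenerate v hv).1)
    (hle.trans (quadSimilarityGroup_le Q))

theorem notSL_unitary {p : ℕ} [Fact p.Prime] [CharP F p] (hn : 3 ≤ n)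
    (σ : F ≃+* F) (f : (Fin n → F) → (Fin n → F) → F) (hf : IsUnitaryForm σ f) :
    ¬ specialLinear (Fin n) F ≤ similarityGroup f := by
  refine notSL_similarity (p := p) hn f hf.add_left ?_ (fun v hv => (hf.nondegenerate v hv).1)
  intro v x y
  rw [hf.herm v (x + y), hf.add_left, map_add, ← hf.herm, ← hf.herm]

end Cfsg.Agent.Helper97
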