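import Mathlib
import Cfsg.Agent.Helper94.S43Defs
import Cfsg.Agent.Helper11.SORT
import Cfsg.Agent.Helper11.SORP
import Cfsg.Agent.Helper11.SOTR
import Cfsg.Agent.Helper14.S43XS
import Cfsg.Agent.Helper14.S43B2b
import Cfsg.Agent.Helper19.S43B2a
import Cfsg.Agent.Helper31.S43EXT
import Cfsg.Agent.Helper31.S43TRS4

/-!
Helper library (helper97), piece NASM of CALL S43 (helper94): a non-scalar `C` with `X4 C ∈ M`
gives all symplectic transvections centred at pure singular tensors.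
-/

set_option autoImplicit false

namespace Cfsg.Agent.Helper97.S43NASM

open Matrix Cfsg.Agent.Helper71.T4 Cfsg.Agent.Helper94.S43
open Cfsg.Agent.Helper71.SO (bl ruw Nuw)
open Cfsg.Agent.Helper11.SORT Cfsg.Agent.Helper11.SORP Cfsg.Agent.Helper11.SOTR
open Cfsg.Agent.Helper14.S43XS (xset_add xset_smul xset_conj xset_sa)
open Cfsg.Agent.Helper19.S43B2a (sing_nonzero_q)
open Cfsg.Agent.Helper14.S43B2b (root_conj_poly)
open Cfsg.Agent.Helper31.S43EXT (ext5)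
open Cfsg.Agent.Helper31.S43TRS4 (sp4_trans)
open scoped Kronecker

variable {F : Type*} [Field F]

theorem vmv_pt (a b : Fin 4 → F) (x y : Fin 3 → F) :
    vecMulVec (pt a x) (pt b y) = (vecMulVec a b) ⊗ₖ (vecMulVec x y) := by
  ext ⟨i, k⟩ ⟨j, l⟩
  simp only [vecMulVec_apply, pt, Matrix.kroneckerMap_apply]
  ring

theorem vmv_single03 :
    vecMulVec (Pi.single (0 : Fin 4) (1 : F)) (Pi.single (3 : Fin 4) (1 : F)) =
      Matrix.single (0 : Fin 4) (3 : Fin 4) (1 : F) := by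
  ext i j
  fin_cases i <;> fin_cases j <;> simp [vecMulVec_apply]

theorem J4_e0 : J4 F *ᵥ Pi.single (0 : Fin 4) (1 : F) = -Pi.single (3 : Fin 4) (1 : F) := by
  ext i
  fin_cases i <;> simp [J4, Matrix.mulVec, dotProduct, Fin.sum_univ_four]

theorem X4_base (S : Matrix (Fin 3) (Fin 3) F) (z : Fin 3 → F) (c : F) :
    X4 ((-c) • vecMulVec z (S *ᵥ z)) =
      1 + c • vecMulVec (pt (Pi.single (0 : Fin 4) (1 : F)) z)
        (Om4 S *ᵥ pt (Pi.single (0 : Fin 4) (1 : F)) z) := by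
  have e1 : Om4 S *ᵥ pt (Pi.single (0 : Fin 4) (1 : F)) z =
      pt (-Pi.single (3 : Fin 4) (1 : F)) (S *ᵥ z) := by
    unfold Om4
    rw [kron_mulVec_pt, J4_e0]
  rw [e1, vmv_pt, Matrix.vecMulVec_neg, vmv_single03]
  have e2 : (-Matrix.single (0 : Fin 4) (3 : Fin 4) (1 : F)) ⊗ₖ vecMulVec z (S *ᵥ z) =
      -(Matrix.single (0 : Fin 4) (3 : Fin 4) (1 : F) ⊗ₖ vecMulVec z (S *ᵥ z)) := by
    ext ⟨i, k⟩ ⟨j, l⟩
    simp [Matrix.kroneckerMap_apply]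
  unfold X4 EK
  rw [Matrix.kronecker_smul, e2, neg_smul, smul_neg]

theorem tvp_of_not_nsx [Fintype F] (hq : 5 ≤ Fintype.card F) (h2 : (2 : F) ≠ 0)
    (S : Matrix (Fin 3) (Fin 3) F) (hS : Sᵀ = S) (hdet : S.det ≠ 0)
    (M : Subgroup (GL (Fin 4 × Fin 3) F)) (hSp : SpLE4 S M) (hH : HasH4 S M)
    (hns : ¬ NSX4 M) : TvP4 S M := by
  classical
  obtain ⟨C0, hC0, hns0⟩ : ∃ C : Matrix (Fin 3) (Fin 3) F, InM M (X4 C) ∧
      ¬ ∃ c : F, C = c • (1 : Matrix (Fin 3) (Fin 3) F) := by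
    by_contra h
    exact hns (fun C hC => by
      by_contra h'
      exact h ⟨C, hC, h'⟩)
  have hsa := xset_sa S M hSp hC0
  obtain ⟨z, w, hz, hzz, hzw, hww, hzC⟩ := sing_nonzero_q hq h2 S hS hdet C0 hsa hns0
  obtain ⟨C1, C2, C3, hpoly⟩ := root_conj_poly h2 S hS z w hzz hzw C0
  -- the subspace of all `C` with `X4 C ∈ M`
  let P : Submodule F (Matrix (Fin 3) (Fin 3) F) :=
    { carrier := {C | InM M (X4 C)}
      add_mem' := fun h h' => xset_add M h h'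
      zero_mem' := ⟨1, M.one_mem, by rw [X4_zero]; rfl⟩
      smul_mem' := fun c _ h => xset_smul S M hH h c }
  have hP : ∀ C, C ∈ P ↔ InM M (X4 C) := fun C => Iff.rfl
  have hconj : ∀ t : F, ruw S z (t • w) * C0 * ruw S z (-(t • w)) ∈ P := by
    intro t
    have hzt : bl S z (t • w) = 0 := by rw [bl_smul_right, hzw, mul_zero]
    have hzt' : bl S z (-(t • w)) = 0 := by rw [bl_neg_right, hzt, neg_zero]
    refine xset_conj S M hH hC0 _ _ (ruw_isom h2 S hS z (t • w) hzz hzt) ?_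
    rw [ruw_add h2 S hS z _ _ hzz hzt hzt', add_neg_cancel, ruw_zero]
  have h4 : ((bl S w w) ^ 2 * bl S z (C0 *ᵥ z) / 4) • vecMulVec z (S *ᵥ z) ∈ P := by
    apply ext5 hq P C0 C1 C2 C3
    intro t
    rw [← hpoly t]
    exact hconj t
  have hκ : (bl S w w) ^ 2 * bl S z (C0 *ᵥ z) / 4 ≠ 0 := by
    have h4' : (4 : F) ≠ 0 := by
      have e : (4 : F) = 2 * 2 := by norm_num
      rw [e]
      exact mul_ne_zero h2 h2
    exact div_ne_zero (mul_ne_zero (pow_ne_zero _ hww) hzC) h4'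
  have hall : ∀ c : F, c • vecMulVec z (S *ᵥ z) ∈ P := by
    intro c
    have h := P.smul_mem (c * ((bl S w w) ^ 2 * bl S z (C0 *ᵥ z) / 4)⁻¹) h4
    rwa [smul_smul, mul_assoc, inv_mul_cancel₀ hκ, mul_one] at h
  -- the transvections centred at `e₀ ⊗ z`
  have hbase : ∀ c : F, InM M (1 + c • vecMulVec (pt (Pi.single (0 : Fin 4) (1 : F)) z)
      (Om4 S *ᵥ pt (Pi.single (0 : Fin 4) (1 : F)) z)) := by
    intro c
    have h := (hP _).mp (hall (-c))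
    rwa [X4_base] at h
  intro a u c huu
  by_cases ha : a = 0
  · refine ⟨1, M.one_mem, ?_⟩
    have e : pt a u = 0 := by
      funext p
      simp [pt, ha]
    rw [e, Matrix.zero_vecMulVec, smul_zero, add_zero]
    rfl
  by_cases hu : u = 0
  · refine ⟨1, M.one_mem, ?_⟩
    have e : pt a u = 0 := by
      funext p
      simp [pt, hu]
    rw [e, Matrix.zero_vecMulVec, smul_zero, add_zero]
    rfl
  have he0 : (Pi.single (0 : Fin 4) (1 : F) : Fin 4 → F) ≠ 0 := by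
    intro h
    have := congrFun h 0
    simp at this
  obtain ⟨A, A', hA, hAA', hA'A, hAe⟩ := sp4_trans (Pi.single (0 : Fin 4) (1 : F)) a he0 ha
  obtain ⟨B, hB, hBz⟩ := sing_trans h2 S hS hdet u z hu hz huu hzz
  obtain ⟨γ, hγM, hγ⟩ := hH A B 1 1 (by rw [hA, one_smul]) (by rw [hB, one_smul]) (one_mul 1)
  obtain ⟨τ, hτM, hτ⟩ := hbase c
  refine ⟨γ * τ * γ⁻¹, M.mul_mem (M.mul_mem hγM hτM) (M.inv_mem hγM), ?_⟩
  have hsp : (γ : Matrix (Fin 4 × Fin 3) (Fin 4 × Fin 3) F)ᵀ * Om4 S *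
      (γ : Matrix (Fin 4 × Fin 3) (Fin 4 × Fin 3) F) = Om4 S := hSp γ hγM
  have hGGi : (γ : Matrix (Fin 4 × Fin 3) (Fin 4 × Fin 3) F) *
      ((γ⁻¹ : GL (Fin 4 × Fin 3) F) : Matrix (Fin 4 × Fin 3) (Fin 4 × Fin 3) F) = 1 := by
    rw [← Units.val_mul, mul_inv_cancel]
    rfl
  have hGiO : ((γ⁻¹ : GL (Fin 4 × Fin 3) F) : Matrix (Fin 4 × Fin 3) (Fin 4 × Fin 3) F)ᵀ * Om4 S =
      Om4 S * (γ : Matrix (Fin 4 × Fin 3) (Fin 4 × Fin 3) F) := by
    calc ((γ⁻¹ : GL (Fin 4 × Fin 3) F) : Matrix (Fin 4 × Fin 3) (Fin 4 × Fin 3) F)ᵀ * Om4 S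
        = ((γ⁻¹ : GL (Fin 4 × Fin 3) F) : Matrix (Fin 4 × Fin 3) (Fin 4 × Fin 3) F)ᵀ *
            ((γ : Matrix (Fin 4 × Fin 3) (Fin 4 × Fin 3) F)ᵀ * Om4 S *
              (γ : Matrix (Fin 4 × Fin 3) (Fin 4 × Fin 3) F)) := by rw [hsp]
      _ = ((γ : Matrix (Fin 4 × Fin 3) (Fin 4 × Fin 3) F) *
            ((γ⁻¹ : GL (Fin 4 × Fin 3) F) : Matrix (Fin 4 × Fin 3) (Fin 4 × Fin 3) F))ᵀ *
            Om4 S * (γ : Matrix (Fin 4 × Fin 3) (Fin 4 × Fin 3) F) := by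
          rw [Matrix.transpose_mul]
          simp only [Matrix.mul_assoc]
      _ = Om4 S * (γ : Matrix (Fin 4 × Fin 3) (Fin 4 × Fin 3) F) := by
          rw [hGGi, Matrix.transpose_one, Matrix.one_mul]
  have hGv : (γ : Matrix (Fin 4 × Fin 3) (Fin 4 × Fin 3) F) *ᵥ
      pt (Pi.single (0 : Fin 4) (1 : F)) z = pt a u := by
    rw [hγ, kron_mulVec_pt, hAe, hBz]
  rw [Units.val_mul, Units.val_mul, hτ, Matrix.mul_add, Matrix.add_mul, Matrix.mul_one, hGGi,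
    Matrix.mul_smul, Matrix.smul_mul, Matrix.mul_vecMulVec, Matrix.vecMulVec_mul, hGv]
  congr 3
  rw [← Matrix.mulVec_transpose, Matrix.mulVec_mulVec, hGiO, ← Matrix.mulVec_mulVec, hGv]

end Cfsg.Agent.Helper97.S43NASM
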