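import Mathlib
import Cfsg.Agent.Helper94.S43Defs
import Cfsg.Agent.Helper11.SORT
import Cfsg.Agent.Helper11.SORP
import Cfsg.Agent.Helper11.SOTR
import Cfsg.Agent.Helper97.S43FR

/-!
Helper library (helper97), piece SPR of CALL S43 (helper94): spreading of transvection centres,
with the detour lemma (piece DET) as an explicit hypothesis.
-/

set_option autoImplicit false

namespace Cfsg.Agent.Helper97.S43SPRa

open Matrix Cfsg.Agent.Helper71.T4 Cfsg.Agent.Helper94.S43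
open Cfsg.Agent.Helper71.SO (bl ruw Nuw)
open Cfsg.Agent.Helper11.SORT Cfsg.Agent.Helper11.SOTR
open Cfsg.Agent.Helper97.S43FR
open scoped Kronecker

variable {F : Type*} [Field F]

theorem pt_zero_left4 (w : Fin 3 → F) : pt (0 : Fin 4 → F) w = 0 := by
  funext p
  simp [pt]

theorem pt_zero_right4 (u : Fin 4 → F) : pt u (0 : Fin 3 → F) = 0 := by
  funext p
  simp [pt]

theorem pt_neg_left4 (u : Fin 4 → F) (w : Fin 3 → F) : pt (-u) w = -pt u w := by
  funext p
  simp [pt]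

theorem J4_transpose : (J4 F)ᵀ = -J4 F := by
  ext i j
  fin_cases i <;> fin_cases j <;> simp [J4]

theorem Om4_transpose (S : Matrix (Fin 3) (Fin 3) F) (hS : Sᵀ = S) : (Om4 S)ᵀ = -Om4 S := by
  ext ⟨i, k⟩ ⟨j, l⟩
  have hJ : J4 F j i = -J4 F i j := by
    have := congrFun (congrFun (J4_transpose (F := F)) i) j
    simpa using this
  have hS' : S l k = S k l := by
    have := congrFun (congrFun hS k) l
    simpa using this
  simp only [Om4, Matrix.transpose_apply, Matrix.kroneckerMap_apply, Matrix.neg_apply]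
  rw [hJ, hS']
  ring

theorem Om4_alt (h2 : (2 : F) ≠ 0) (S : Matrix (Fin 3) (Fin 3) F) (hS : Sᵀ = S)
    (x : Fin 4 × Fin 3 → F) : x ⬝ᵥ Om4 S *ᵥ x = 0 := by
  have h : x ⬝ᵥ Om4 S *ᵥ x = -(x ⬝ᵥ Om4 S *ᵥ x) := by
    conv_lhs => rw [Matrix.dotProduct_mulVec, ← Matrix.mulVec_transpose, Om4_transpose S hS,
      Matrix.neg_mulVec, neg_dotProduct, dotProduct_comm]
  have h' : (2 : F) * (x ⬝ᵥ Om4 S *ᵥ x) = 0 := by linear_combination h
  rcases mul_eq_zero.mp h' with h0 | h0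
  · exact absurd h0 h2
  · exact h0

theorem centres_all4_of [Fintype F] (h2 : (2 : F) ≠ 0)
    (S : Matrix (Fin 3) (Fin 3) F) (hS : Sᵀ = S) (hdet : S.det ≠ 0)
    (detour : ∀ (v : Fin 4 × Fin 3 → F) (_ : v ≠ 0) (a : Fin 4 → F) (s : Fin 3 → F) (_ : a ≠ 0)
      (_ : s ≠ 0) (_ : bl S s s = 0) (_ : v + pt a s ≠ 0),
      ∃ (a' : Fin 4 → F) (s' : Fin 3 → F), bl S s' s' = 0 ∧
        v ⬝ᵥ Om4 S *ᵥ pt a' s' ≠ 0 ∧ pt a' s' ⬝ᵥ Om4 S *ᵥ pt a s ≠ 0 ∧
        (v + pt a s) ⬝ᵥ Om4 S *ᵥ pt a' s' ≠ 0)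
    (C : Set (Fin 4 × Fin 3 → F))
    (h1 : ∀ (a : Fin 4 → F) (s : Fin 3 → F), bl S s s = 0 → pt a s ∈ C)
    (h3 : ∀ v v' : Fin 4 × Fin 3 → F, v ∈ C → v' ∈ C → v ⬝ᵥ Om4 S *ᵥ v' ≠ 0 → v + v' ∈ C) :
    ∀ v : Fin 4 × Fin 3 → F, v ∈ C := by
  classical
  have h0 : (0 : Fin 4 × Fin 3 → F) ∈ C := by
    have := h1 0 0 (bl_zero_left S 0)
    rwa [pt_zero_left4] at this
  have hA : ∀ v ∈ C, ∀ (a : Fin 4 → F) (s : Fin 3 → F), bl S s s = 0 → v + pt a s ∈ C := by
    intro v hv a s hss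
    by_cases hv0 : v = 0
    · rw [hv0, zero_add]
      exact h1 a s hss
    by_cases ha : a = 0
    · rw [ha, pt_zero_left4, add_zero]
      exact hv
    by_cases hs : s = 0
    · rw [hs, pt_zero_right4, add_zero]
      exact hv
    by_cases hvp : v + pt a s = 0
    · rw [hvp]
      exact h0
    by_cases hω : v ⬝ᵥ Om4 S *ᵥ pt a s = 0
    · obtain ⟨a', s', hs's', hd1, hd2, hd3⟩ := detour v hv0 a s ha hs hss hvp
      have hp' : pt a' s' ∈ C := h1 a' s' hs's'
      have hvp' : v + pt a' s' ∈ C := h3 v (pt a' s') hv hp' hd1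
      have e1 : (v + pt a' s') ⬝ᵥ Om4 S *ᵥ pt a s ≠ 0 := by
        rw [add_dotProduct, hω, zero_add]
        exact hd2
      have hvpp : v + pt a' s' + pt a s ∈ C := h3 _ _ hvp' (h1 a s hss) e1
      have e2 : (v + pt a' s' + pt a s) ⬝ᵥ Om4 S *ᵥ pt (-a') s' ≠ 0 := by
        rw [pt_neg_left4, Matrix.mulVec_neg, dotProduct_neg, neg_ne_zero]
        have e : (v + pt a' s' + pt a s) ⬝ᵥ Om4 S *ᵥ pt a' s' =
            (v + pt a s) ⬝ᵥ Om4 S *ᵥ pt a' s' := by
          rw [add_dotProduct, add_dotProduct, add_dotProduct, Om4_alt h2 S hS, add_zero]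
        rw [e]
        exact hd3
      have h4 := h3 _ _ hvpp (h1 (-a') s' hs's') e2
      have e3 : v + pt a' s' + pt a s + pt (-a') s' = v + pt a s := by
        rw [pt_neg_left4]
        abel
      rwa [e3] at h4
    · exact h3 v (pt a s) hv (h1 a s hss) hω
  have hsum : ∀ (T : Finset (Fin 4 × Fin 3)) (A : Fin 4 × Fin 3 → Fin 4 → F)
      (U : Fin 4 × Fin 3 → Fin 3 → F), (∀ j, bl S (U j) (U j) = 0) →
      ∑ j ∈ T, pt (A j) (U j) ∈ C := by
    intro T A U hU
    induction T using Finset.induction_on with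
    | empty =>
      rw [Finset.sum_empty]
      exact h0
    | insert j T hj ih =>
      rw [Finset.sum_insert hj, add_comm]
      exact hA _ ih _ _ (hU j)
  -- three singular vectors spanning the space
  obtain ⟨s, hs, hss⟩ := exists_sing3 h2 S hS hdet
  obtain ⟨s₁, e, h11, h01, hse, hs1e, hee, hexp⟩ := hyp_frame3 h2 S hS hdet s hs hss
  have h10 : bl S s₁ s = 1 := by rw [bl_comm S hS, h01]
  have hes : bl S e s = 0 := by rw [bl_comm S hS, hse]
  have hes1 : bl S e s₁ = 0 := by rw [bl_comm S hS, hs1e]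
  obtain ⟨s₂, hs₂⟩ : ∃ s₂ : Fin 3 → F, s₂ = s₁ + e - (bl S e e / 2) • s := ⟨_, rfl⟩
  have h22 : bl S s₂ s₂ = 0 := by
    rw [hs₂]
    simp only [bl_sub_left, bl_sub_right, bl_add_left, bl_add_right, bl_smul_left, bl_smul_right,
      h11, h01, h10, hse, hs1e, hes, hes1, hss]
    field_simp
    ring
  intro v
  have hU : ∀ j : Fin 4 × Fin 3, bl S (![s, s₁, s₂] j.2) (![s, s₁, s₂] j.2) = 0 := by
    rintro ⟨i, j⟩
    fin_cases j
    · exact hss
    · exact h11
    · exact h22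
  have hv : v = ∑ j : Fin 4 × Fin 3,
      pt ((![bl S (fun l => v (j.1, l)) s₁ + (bl S (fun l => v (j.1, l)) e / bl S e e) *
              (bl S e e / 2),
            bl S (fun l => v (j.1, l)) s - bl S (fun l => v (j.1, l)) e / bl S e e,
            bl S (fun l => v (j.1, l)) e / bl S e e] j.2) • (Pi.single j.1 (1 : F) : Fin 4 → F))
        (![s, s₁, s₂] j.2) := by
    funext ⟨i₀, l⟩
    rw [Finset.sum_apply, Fintype.sum_prod_type, Finset.sum_eq_single i₀]
    · rw [Fin.sum_univ_three]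
      have hx := congrFun (hexp (fun l => v (i₀, l))) l
      simp only [Pi.add_apply, Pi.smul_apply, smul_eq_mul] at hx
      simp only [pt, Pi.smul_apply, Pi.single_eq_same, smul_eq_mul, mul_one,
        Matrix.cons_val_zero, Matrix.cons_val_one, Matrix.cons_val_two, Matrix.head_cons,
        Matrix.tail_cons]
      rw [hs₂]
      simp only [Pi.add_apply, Pi.sub_apply, Pi.smul_apply, smul_eq_mul]
      rw [hx]
      field_simp
      ring
    · intro i _ hi
      apply Finset.sum_eq_zero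
      intro j _
      simp [pt, Ne.symm hi]
    · intro h
      exact absurd (Finset.mem_univ i₀) h
  rw [hv]
  exact hsum Finset.univ _ _ hU

end Cfsg.Agent.Helper97.S43SPRa
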