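import Mathlib
import Cfsg.Agent.Helper97.S43SPRa
import Cfsg.Agent.Helper80.S43DET

/-!
Helper library (helper97), piece SPR of CALL S43 (helper94): spreading of transvection centres
(verbatim statement; proof in `S43SPRa`, detour lemma = piece DET).
-/

set_option autoImplicit false

namespace Cfsg.Agent.Helper97.S43SPR

open Matrix Cfsg.Agent.Helper71.T4 Cfsg.Agent.Helper94.S43
open Cfsg.Agent.Helper71.SO (bl ruw Nuw)
open scoped Kronecker

variable {F : Type*} [Field F]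

theorem centres_all4 [Fintype F] (hq : 5 ≤ Fintype.card F) (h2 : (2 : F) ≠ 0)
    (S : Matrix (Fin 3) (Fin 3) F) (hS : Sᵀ = S) (hdet : S.det ≠ 0)
    (C : Set (Fin 4 × Fin 3 → F))
    (h1 : ∀ (a : Fin 4 → F) (s : Fin 3 → F), bl S s s = 0 → pt a s ∈ C)
    (h3 : ∀ v v' : Fin 4 × Fin 3 → F, v ∈ C → v' ∈ C → v ⬝ᵥ Om4 S *ᵥ v' ≠ 0 → v + v' ∈ C) :
    ∀ v : Fin 4 × Fin 3 → F, v ∈ C :=
  Cfsg.Agent.Helper97.S43SPRa.centres_all4_of h2 S hS hdet
    (fun v hv a s ha hs hss hvp =>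
      Cfsg.Agent.Helper80.S43DET.detour4 hq h2 S hS hdet v hv a s ha hs hss hvp) C h1 h3

end Cfsg.Agent.Helper97.S43SPR
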