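import Mathlib

set_option autoImplicit false

/-!
# Sub-CALL S88OE (helper43; row S5988), piece PSDIM (helper97; double): dimension of a product
subspace.
-/

namespace Cfsg.Agent.Helper97.S88OE

open Module

section lin

variable {F : Type*} [Field F] {Va Vb : Type*} [AddCommGroup Va] [Module F Va] [AddCommGroup Vb]
  [Module F Vb]

/-- the product subspace as a product of subspaces. -/
def psdimEquiv (Ua : Submodule F Va) (Ub : Submodule F Vb) : ↥(Ua.prod Ub) ≃ₗ[F] ↥Ua × ↥Ub where
  toFun x := (⟨x.1.1, x.2.1⟩, ⟨x.1.2, x.2.2⟩)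
  map_add' _ _ := rfl
  map_smul' _ _ := rfl
  invFun y := ⟨(y.1.1, y.2.1), ⟨y.1.2, y.2.2⟩⟩
  left_inv _ := rfl
  right_inv _ := rfl

/-- PSDIM [S, generic]: dimension of a product subspace. -/
theorem oe_prod_sub_dim [FiniteDimensional F Va] [FiniteDimensional F Vb] (Ua : Submodule F Va)
    (Ub : Submodule F Vb) : finrank F ↥(Ua.prod Ub) = finrank F Ua + finrank F Ub := by
  rw [(psdimEquiv Ua Ub).finrank_eq, Module.finrank_prod]

end lin

end Cfsg.Agent.Helper97.S88OE
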