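-- helper97 library: the structure theorem for groups of isometries of the standard unitary form,
-- in odd dimension, with the class-two and central-product cases carrying their data (after
-- Helper35/UnCore).
import Cfsg.Agent.Helper35.UnCore
import Cfsg.Agent.Helper96.Composite
import Cfsg.Agent.Helper97.USubfield2

set_option autoImplicit false
set_option linter.unusedSectionVars false
set_option linter.unusedVariables false
open Cfsg Cfsg.Geo Matrix
open scoped Kronecker

namespace Cfsg.Agent.Helper97.U9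

open Cfsg.Agent.Helper97 Cfsg.Agent.Helper35

variable {F : Type*} [Field F] {n : ℕ} {q : ℕ} {σ : F ≃+* F}

/-- The structures stabilised by a group of isometries of the standard unitary form. -/
def UnOutcomeD (n : ℕ) (F : Type*) [Field F] [Fintype F] (q : ℕ) (σ : F ≃+* F)
    (H : Subgroup (GL (Fin n) F)) : Prop :=
  (∃ W : Submodule F (Fin n → F), W ≠ ⊥ ∧ W ≠ ⊤ ∧ IsTotallySingularFor (hermForm n F q) W ∧
    H ≤ subspaceStabilizer W) ∨
  (∃ W : Submodule F (Fin n → F), W ≠ ⊥ ∧ W ≠ ⊤ ∧ IsNondegenerateOn (hermForm n F q) W ∧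
    2 * Module.finrank F W < n ∧ H ≤ subspaceStabilizer W) ∨
  (∃ (t k : ℕ) (D : Fin t → Submodule F (Fin n → F)),
    IsNondegenerateMDecomposition (hermForm n F q) k D ∧ H ≤ decompositionStabilizer D) ∨
  (∃ (k : ℕ) (D : Fin 2 → Submodule F (Fin n → F)), IsMDecomposition k D ∧
    (∀ i, IsTotallySingularFor (hermForm n F q) (D i)) ∧ H ≤ decompositionStabilizer D) ∨
  (∃ (r : ℕ) (K : Subalgebra F (Matrix (Fin n) (Fin n) F)), r.Prime ∧ Odd r ∧
    IsFieldSubalgebra r K ∧ IsAdjointClosedFor (hermForm n F q) K ∧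
    H ≤ subalgebraNormalizer K) ∨
  (∃ (n₁ n₂ : ℕ) (e : Fin n ≃ Fin n₁ × Fin n₂) (P : GL (Fin n) F)
    (A : Matrix (Fin n₁) (Fin n₁) F) (S : Matrix (Fin n₂) (Fin n₂) F),
    2 ≤ n₁ ∧ n₁ ≤ n₂ ∧ Aᵀ = A.map σ ∧ Sᵀ = S.map σ ∧ A.det ≠ 0 ∧ S.det ≠ 0 ∧
    Matrix.reindexAlgEquiv F F e
      ((P : Matrix (Fin n) (Fin n) F)ᵀ * (P : Matrix (Fin n) (Fin n) F).map σ) = A ⊗ₖ S ∧
    H ≤ tensorProductSubgroup n₁ n₂ e P) ∨
  (∃ (F₀ : Subfield F) (r : ℕ) (P : GL (Fin n) F), r.Prime ∧ Fintype.card F = Nat.card F₀ ^ r ∧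
    H ≤ subfieldSubgroup F₀ P ∧
    IsFormRationalStructure (hermForm n F q) F₀ 1 P ∧ (Odd r ∨ (r = 2 ∧ Odd q))) ∨
  InUnitaryResidualClass H ∨
  (∃ N : Subgroup (GL (Fin n) F), Helper96.C2Data H N) ∨
  (∃ (N S : Subgroup (GL (Fin n) F)) (d k : ℕ) (e : Fin n ≃ Fin d × Fin k) (Pm : GL (Fin n) F)
    (ρ : Matrix (Fin n) (Fin n) F → Matrix (Fin d) (Fin d) F), Helper96.CPData H N S d k e Pm ρ)

/-- Every group of isometries of the standard unitary form stabilises one of the listed structures. -/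
theorem un_coreD [Fintype F] (h : IsSigma q σ) (hF : Fintype.card F = q ^ 2) (hn3 : 3 ≤ n)
    (hodd : Odd n) (H : Subgroup (GL (Fin n) F)) (hH : H ≤ GU n F q) : UnOutcomeD n F q σ H := by
  classical
  have hn : 2 ≤ n := by omega
  have hnz : NeZero n := ⟨by omega⟩
  have hZc : ∀ z ∈ scalars (Fin n) F, ∀ g : GL (Fin n) F, z * g = g * z :=
    fun z hz g => Helper97.scalars_comm hz g
  by_cases hirr : ActsIrreducibly (matrixSet H)
  swap
  · rcases un_reducible_cases h H hH hirr with h1 | h1 | ⟨k, D, hD, hle⟩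
    · exact Or.inl h1
    · exact Or.inr (Or.inl h1)
    · exact Or.inr (Or.inr (Or.inl ⟨2, k, D, hD, hle⟩))
  have hHZ : ¬ H ≤ scalars (Fin n) F := Helper97.not_le_scalars_of_irreducible hn H hirr
  obtain ⟨N, hNH, hNn, hNZ, hNmin⟩ := Helper97.exists_minimal_normal (scalars (Fin n) F) H hHZ
  have hNGU : N ≤ GU n F q := hNH.trans hH
  rcases un_z_analysis h hF (by omega) H N hH hirr hNH hNn with h1 | h1 | h1 | hsc
  · exact Or.inr (Or.inr (Or.inl h1))
  · exact Or.inr (Or.inr (Or.inr (Or.inl h1)))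
  · exact Or.inr (Or.inr (Or.inr (Or.inr (Or.inl h1))))
  obtain ⟨d, k, e, P, ρ, hTD⟩ := Helper96.tensorData_of_zcent_scalar (by omega) H N hirr hNn hsc
  by_cases hd1 : d = 1
  · exact absurd (hTD.le_scalars_of_one hd1) hNZ
  have hd2 : 2 ≤ d := by have := hTD.hd; omega
  by_cases hk1 : k = 1
  swap
  · have hk2 : 2 ≤ k := by have := hTD.hk; omega
    exact Or.inr (Or.inr (Or.inr (Or.inr (Or.inr (Or.inl
      (un_tensor_cases h H N hH hNH hNn hTD hd2 hk2))))))
  -- `N` is absolutely irreducible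
  have habs : ActsAbsolutelyIrreducibly (matrixSet N) := hTD.absIrred_of_one hk1
  have hCN : ⁅N, N⁆ ≤ N := by
    rw [Subgroup.commutator_le]
    intro a ha b hb
    rw [commutatorElement_def]
    exact N.mul_mem (N.mul_mem (N.mul_mem ha hb) (N.inv_mem ha)) (N.inv_mem hb)
  rcases hNmin ⁅N, N⁆ hCN (Helper97.commutator_normalized H N hNn) with hC | hC
  · -- class two modulo scalars
    have hab : ∀ a ∈ N, ∀ b ∈ N, a * b * a⁻¹ * b⁻¹ ∈ scalars (Fin n) F := by
      intro a ha b hb
      have := Subgroup.commutator_mem_commutator ha hb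
      rw [commutatorElement_def] at this
      exact hC this
    obtain ⟨r, hr, hpow⟩ := Helper97.exists_prime_pow_mem (scalars (Fin n) F) H N hZc hNn hNZ hNmin hab
    obtain ⟨j, hj⟩ := Helper96.sq_eq_prime_pow_of_class_two N habs hab r hr hpow
    exact Or.inr (Or.inr (Or.inr (Or.inr (Or.inr (Or.inr (Or.inr (Or.inr (Or.inl
      ⟨N, hNH, hNn, hNZ, hNmin, habs, hab, r, j, hr, hj, hpow⟩))))))))
  -- perfect
  have hperf : ⁅N, N⁆ = N := hC
  have hirrN : ActsIrreducibly (matrixSet N) := habs.1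
  have hcentN : ∀ c : GL (Fin n) F, (∀ s ∈ N, c * s = s * c) → c ∈ scalars (Fin n) F := by
    intro c hc
    obtain ⟨a, ha⟩ := habs.2 (c : Matrix (Fin n) (Fin n) F) (by
      rintro _ ⟨s, hs, rfl⟩
      rw [← Units.val_mul, ← Units.val_mul, hc s hs])
    exact (Helper97.scalar_mem_scalars_iff c).mpr ⟨a, ha⟩
  rcases Helper96.perfect_structure (scalars (Fin n) F) H N hZc hNn hNZ hNmin hperf with
    hsimple | ⟨S, hSN, hSn, hSZ, hSperf, hne, hcomm, hgen⟩
  swap
  · -- central product of conjugates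
    have hsc' : ∀ M, Helper96.ZCent (matrixSet S) M →
        ∃ c : F, M = c • (1 : Matrix (Fin n) (Fin n) F) := by
      intro M hM
      apply habs.2
      have hyc : ∀ g ∈ H, ∀ y ∈ Helper97.cj g S,
          M * (y : Matrix (Fin n) (Fin n) F) = (y : Matrix (Fin n) (Fin n) F) * M := by
        intro g hg y hy'
        rcases hcomm g hg with h1 | h1
        · rw [h1] at hy'
          exact hM.1 _ (Helper97.coe_mem_matrixSet hy')
        · apply hM.2
          rintro _ ⟨s', hs', rfl⟩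
          rw [← Units.val_mul, ← Units.val_mul, h1 s' hs' y hy']
      have key : ∀ x ∈ Subgroup.closure {x | ∃ g ∈ H, x ∈ Helper97.cj g S},
          M * (x : Matrix (Fin n) (Fin n) F) = (x : Matrix (Fin n) (Fin n) F) * M ∧
          M * ((x⁻¹ : GL (Fin n) F) : Matrix (Fin n) (Fin n) F) =
            ((x⁻¹ : GL (Fin n) F) : Matrix (Fin n) (Fin n) F) * M := by
        intro x hx
        induction hx using Subgroup.closure_induction with
        | mem y hy =>
          obtain ⟨g, hg, hy'⟩ := hy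
          exact ⟨hyc g hg y hy', hyc g hg y⁻¹ (Subgroup.inv_mem _ hy')⟩
        | one =>
          rw [inv_one, Units.val_one, mul_one, one_mul]
          exact ⟨rfl, rfl⟩
        | mul y z _ _ hy hz =>
          rw [_root_.mul_inv_rev, Units.val_mul, Units.val_mul]
          constructor
          · rw [← mul_assoc, hy.1, mul_assoc, hz.1, ← mul_assoc]
          · rw [← mul_assoc, hz.2, mul_assoc, hy.2, ← mul_assoc]
        | inv y _ hy =>
          rw [inv_inv]
          exact ⟨hy.2, hy.1⟩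
      rintro _ ⟨x, hx, rfl⟩
      exact (key x (by rw [hgen]; exact hx)).1
    obtain ⟨d', k', e', P', ρ', hTD'⟩ :=
      Helper96.tensorData_of_zcent_scalar (by omega) N S hirrN hSn hsc'
    have hd'2 : 2 ≤ d' := by
      have h1 := hTD'.hd
      have h2 : d' ≠ 1 := fun h => hSZ (hTD'.le_scalars_of_one h)
      omega
    have hpw := Helper96.eq_pow_of_central_product H N S hTD' habs hne hcomm hgen
    exact Or.inr (Or.inr (Or.inr (Or.inr (Or.inr (Or.inr (Or.inr (Or.inr (Or.inr
      ⟨N, S, d', k', e', P', ρ', hNH, hNn, hperf, habs, hSN, hSn, hSperf, hSZ, hne, hcomm, hgen,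
        hTD', hd'2, hpw⟩))))))))
  -- simple modulo scalars
  by_cases hsub : ∃ F₀ : Subfield F, F₀ ≠ ⊤ ∧ RealisableOver F₀ (matrixSet N)
  · obtain ⟨F₀, hF₀, B, hB⟩ := hsub
    obtain ⟨F₁, r, hle, hr, hcard⟩ := Helper97.exists_prime_index_subfield F₀ hF₀
    obtain ⟨P', hnorm, hrat, hro⟩ := h.unitary_subfield_structure hF hn3 hodd N hNGU habs F₁ r hr
      hcard B (fun s hs i j => hle (hB s hs i j))
    exact Or.inr (Or.inr (Or.inr (Or.inr (Or.inr (Or.inr (Or.inl
      ⟨F₁, r, P', hr, hcard, fun g hg => hnorm g (hNn g hg), hrat, hro⟩))))))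
  have hcore : IsResidualCore H N :=
    { le := hNH
      normal := hNn
      perfect := hperf
      simple := Helper97.isSimpleGroup_quot (scalars (Fin n) F) N hNZ hsimple
      nonabelian := Helper97.not_commutative_quot (scalars (Fin n) F) N hNZ hperf
      centralizer_scalar := fun g _ hg =>
        Helper97.mem_of_centralizes_mod (scalars (Fin n) F) N hZc hperf hcentN g hg
      absIrred := habs
      no_subfield := fun F₀ hF₀ hreal => hsub ⟨F₀, hF₀, hreal⟩ }
  have hquad : ¬ ∃ Q : (Fin n → F) → F,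
      IsNondegenerateQuadraticForm Q ∧ FixesQuadForm (matrixSet N) Q := by
    rintro ⟨Q, hQ, hfix⟩
    exact hsub (h.realisable_of_fixes_quad hF N hNGU habs Q hQ hfix)
  have hsymp : ¬ ∃ f : (Fin n → F) → (Fin n → F) → F,
      IsSymplecticForm f ∧ FixesForm (matrixSet N) f := by
    rintro ⟨f, hf, hfix⟩
    exact hsub (un_realisable_of_fixes_bilin h hF N hNGU habs f hf.bilinear
      (fun v hv => (hf.nondegenerate v hv).1) hfix)
  exact Or.inr (Or.inr (Or.inr (Or.inr (Or.inr (Or.inr (Or.inr (Or.inl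
    ⟨N, hcore, hquad, hsymp⟩)))))))

end Cfsg.Agent.Helper97.U9
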